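import Cfsg.Agent.H589.Tilde
set_option linter.all false

/-!
# Height zero and the valuations of the coefficients of `p^a χ` on `p`-regular elements
-/

set_option autoImplicit false

open Cfsg
open scoped ComplexConjugate

namespace Cfsg.Agent.H589.TildeHeight

open Cfsg.Agent.Blocks.Local Cfsg.Agent.Blocks.Blau Cfsg.Agent.Characters Cfsg.Agent.H589.Tilde

variable {G : Type*} [Group G]

/-- `pair p ξ χ / ξ 1` is in the local ideal iff the coefficient is divisible by one more power of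
`p` than the degree of `ξ`. -/
theorem memLocalIdeal_pair_div_iff [Fintype G] (p : ℕ) [Fact p.Prime] {M : Ideal AlgInt}
    (hM : IsPModular p M) (χ ξ : IrrCharacter G) :
    MemLocalIdeal M (pair p (ξ : G → ℂ) (χ : G → ℂ) / (ξ : G → ℂ) 1) ↔
      ((p ^ ((charDegree (ξ : G → ℂ)).factorization p + 1) : ℕ) : ℤ) ∣ coef p χ ξ := by
  have hp : p.Prime := Fact.out
  have := isPrime_of_isPModular hM
  set a := (Nat.card G).factorization p with ha
  set b := (charDegree (ξ : G → ℂ)).factorization p with hb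
  have hG : Nat.card G ≠ 0 := Nat.card_pos.ne'
  have hξ0 : charDegree (ξ : G → ℂ) ≠ 0 := (charDegree_pos ξ).ne'
  obtain ⟨m, hm⟩ : ∃ m, Nat.card G = p ^ a * m :=
    ⟨Nat.card G / p ^ a, (Nat.ordProj_mul_ordCompl_eq_self _ p).symm⟩
  have hmp : ¬ p ∣ m := by
    have := Nat.not_dvd_ordCompl hp hG
    rwa [Nat.div_eq_of_eq_mul_right (pow_pos hp.pos _) hm] at this
  obtain ⟨d, hd⟩ : ∃ d, charDegree (ξ : G → ℂ) = p ^ b * d :=
    ⟨charDegree (ξ : G → ℂ) / p ^ b, (Nat.ordProj_mul_ordCompl_eq_self _ p).symm⟩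
  have hdp : ¬ p ∣ d := by
    have := Nat.not_dvd_ordCompl hp hξ0
    rwa [Nat.div_eq_of_eq_mul_right (pow_pos hp.pos _) hd] at this
  have hm0 : (m : ℂ) ≠ 0 := by
    rintro h0
    apply hmp
    have : m = 0 := by exact_mod_cast h0
    rw [this]; exact dvd_zero _
  have hd0 : (d : ℂ) ≠ 0 := by
    rintro h0
    apply hdp
    have : d = 0 := by exact_mod_cast h0
    rw [this]; exact dvd_zero _
  have hp0 : ∀ k : ℕ, ((p ^ k : ℕ) : ℂ) ≠ 0 := fun k => by
    exact_mod_cast (pow_pos hp.pos _).ne'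
  -- m * coef = pair
  have h1 : (m : ℂ) * (coef p χ ξ : ℂ) = pair p (ξ : G → ℂ) (χ : G → ℂ) := by
    rw [← coef_spec, classInner_tilde,
      pair_comm p (Core.isCharacter_apply_inv (Core.isIrr_isCharacter χ.2))
        (Core.isCharacter_apply_inv (Core.isIrr_isCharacter ξ.2)), ← ha, hm]
    have := hp0 a
    rw [Nat.cast_mul]
    field_simp
  obtain ⟨c, hc⟩ := dvd_coef_right p χ ξ
  rw [← hb] at hc
  have h2 : pair p (ξ : G → ℂ) (χ : G → ℂ) / (ξ : G → ℂ) 1 = ((m : ℤ) * c : ℤ) * (d : ℂ)⁻¹ := by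
    rw [← h1, charDegree_spec (Core.isIrr_isCharacter ξ.2), hd, hc]
    have := hp0 b
    push_cast at this ⊢
    field_simp
  rw [h2, hc, pow_succ, Nat.cast_mul]
  have hpb : ((p ^ b : ℕ) : ℤ) ≠ 0 := by exact_mod_cast (pow_pos hp.pos _).ne'
  rw [mul_dvd_mul_iff_left hpb]
  constructor
  · intro h
    have h3 : MemLocalIdeal M ((((m : ℤ) * c : ℤ) : ℂ)) := by
      have h4 := memLocalIdeal_mul_right h (memLocalRing_natCast (M := M) d)
      rwa [mul_assoc, inv_mul_cancel₀ hd0, mul_one] at h4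
    rw [memLocalIdeal_intCast_iff hM] at h3
    rcases (Nat.prime_iff_prime_int.1 hp).dvd_or_dvd h3 with h5 | h5
    · exact absurd (by exact_mod_cast h5) hmp
    · exact h5
  · intro h
    have h3 : MemLocalIdeal M ((((m : ℤ) * c : ℤ) : ℂ)) := by
      rw [memLocalIdeal_intCast_iff hM]
      exact Dvd.dvd.mul_left h _
    exact memLocalIdeal_mul_right h3 (memLocalRing_inv_natCast hM hdp)

theorem not_dvd_iff {p : ℕ} [Fact p.Prime] {n : ℤ} {b : ℕ} (h : ((p ^ b : ℕ) : ℤ) ∣ n) :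
    ¬ ((p ^ (b + 1) : ℕ) : ℤ) ∣ n ↔ n ≠ 0 ∧ padicValInt p n = b := by
  have h' : (p : ℤ) ^ b ∣ n := by exact_mod_cast h
  rw [Nat.cast_pow, padicValInt_dvd_iff]
  rw [padicValInt_dvd_iff] at h'
  by_cases hn : n = 0
  · simp [hn]
  · simp only [hn, false_or, not_le] at h' ⊢
    constructor
    · intro h1
      exact ⟨hn, by omega⟩
    · rintro ⟨-, h1⟩
      omega

/-- Height zero makes all coefficients in the block of exact valuation. -/
theorem not_dvd_of_height_zero [Fintype G] (p : ℕ) [Fact p.Prime] {M : Ideal AlgInt}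
    (hM : IsPModular p M) {B : Set (IrrCharacter G)} (hB : IsPBlock M B) {χ ξ : IrrCharacter G}
    (hχ : χ ∈ B) (h0 : blockHeight p B (χ : G → ℂ) = 0) (hξ : ξ ∈ B) :
    ¬ ((p ^ ((charDegree (ξ : G → ℂ)).factorization p + 1) : ℕ) : ℤ) ∣ coef p χ ξ := by
  rw [← memLocalIdeal_pair_div_iff p hM]
  exact not_memLocalIdeal_pair_div hM hB hχ h0 hξ

/-- One coefficient in the block of exact valuation makes the height zero. -/
theorem height_zero_of_not_dvd [Fintype G] (p : ℕ) [Fact p.Prime] {M : Ideal AlgInt}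
    (hM : IsPModular p M) {B : Set (IrrCharacter G)} (hB : IsPBlock M B) {χ ξ : IrrCharacter G}
    (hξ : ξ ∈ B)
    (h : ¬ ((p ^ ((charDegree (ξ : G → ℂ)).factorization p + 1) : ℕ) : ℤ) ∣ coef p χ ξ) :
    blockHeight p B (χ : G → ℂ) = 0 := by
  by_contra hcon
  have := isPrime_of_isPModular hM
  obtain ⟨ψ, hψ, hψ0⟩ := exists_blockHeight_eq_zero p (isPBlock_nonempty hM hB)
  rw [← memLocalIdeal_pair_div_iff p hM] at h
  apply h
  have h1 := pair_div_sub_pair_div hM ξ.2 ψ.2 (Core.isIrr_isCharacter χ.2)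
    (sameBlock_of_mem hM hB hξ hψ)
  rw [memLocalIdeal_iff_of_sub h1, memLocalIdeal_pair_div_iff p hM]
  have h2 := factorization_lt_of_blockHeight_ne_zero hcon hψ0
  refine dvd_trans ?_ (dvd_coef_left p χ ψ)
  exact_mod_cast pow_dvd_pow p (Nat.succ_le_of_lt h2)

end Cfsg.Agent.H589.TildeHeight
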