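import Cfsg.Agent.Blocks.Blau
import Cfsg.Agent.S0961
import Cfsg.Agent.Characters.DegreeBounds
set_option linter.all false

/-!
# The function `p^a χ` on `p`-regular elements

For an irreducible character `χ` of `G` and `p^a` the `p`-part of `|G|`, the function `tilde p χ`
equal to `p^a χ` on `p`-regular elements and `0` elsewhere: its inner products with irreducible
characters are integers, zero outside the block of `χ`, and divisible by the `p`-parts of the two
degrees.
-/

set_option autoImplicit false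

open Cfsg
open scoped ComplexConjugate

namespace Cfsg.Agent.H589.Tilde

open Cfsg.Agent.Blocks.Local Cfsg.Agent.Blocks.Blau Cfsg.Agent.Characters

variable {G : Type*} [Group G]

/-- The function equal to `p^a χ` on the elements of order prime to `p`, and `0` elsewhere. -/
noncomputable def tilde (p : ℕ) (χ : G → ℂ) : G → ℂ := fun x : G =>
  if p ∣ orderOf x then (0 : ℂ) else ((p ^ (Nat.card G).factorization p : ℕ) : ℂ) * χ x

theorem tilde_def (p : ℕ) (χ : G → ℂ) : tilde p χ = fun x : G =>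
  if p ∣ orderOf x then (0 : ℂ) else ((p ^ (Nat.card G).factorization p : ℕ) : ℂ) * χ x := rfl

theorem tilde_eq (p : ℕ) (χ : G → ℂ) :
    tilde p χ = ((p ^ (Nat.card G).factorization p : ℕ) : ℂ) • regPart p χ := by
  funext x
  rw [Pi.smul_apply, smul_eq_mul]
  by_cases h : p ∣ orderOf x
  · rw [regPart_of_dvd h, mul_zero, tilde_def]
    exact if_pos h
  · rw [regPart_of_not_dvd h, tilde_def]
    exact if_neg h

theorem isClassFunction_tilde (p : ℕ) {χ : G → ℂ} (h : IsClassFunction G χ) :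
    IsClassFunction G (tilde p χ) := by
  intro g x
  rw [tilde_eq, Pi.smul_apply, Pi.smul_apply, regPart_isClassFunction h]

theorem classInner_tilde [Fintype G] (p : ℕ) (χ ψ : G → ℂ) :
    classInner (tilde p χ) ψ =
      ((p ^ (Nat.card G).factorization p : ℕ) : ℂ) * ((Nat.card G : ℂ)⁻¹ * pair p χ ψ) := by
  rw [tilde_eq, Core.classInner_smul_left, classInner_regPart]

/-- The inner products are integers. -/
theorem exists_int [Fintype G] (p : ℕ) [Fact p.Prime] (χ ψ : IrrCharacter G) :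
    ∃ n : ℤ, classInner (tilde p (χ : G → ℂ)) (ψ : G → ℂ) = n := by
  classical
  have := Core.finite_irr (G := G)
  have := Fintype.ofFinite (IrrCharacter G)
  have h := Cfsg.Agent.S0961.result p χ
  obtain ⟨m, hm⟩ := Core.isGeneralizedCharacter_iff.1 h
  refine ⟨m ψ, ?_⟩
  rw [tilde_def, hm, Core.classInner_sum_zsmul_irr]

/-- The integer inner product of `tilde p χ` with `ψ`. -/
noncomputable def coef [Fintype G] (p : ℕ) [Fact p.Prime] (χ ψ : IrrCharacter G) : ℤ :=
  Classical.choose (exists_int p χ ψ)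

theorem coef_spec [Fintype G] (p : ℕ) [Fact p.Prime] (χ ψ : IrrCharacter G) :
    classInner (tilde p (χ : G → ℂ)) (ψ : G → ℂ) = coef p χ ψ :=
  Classical.choose_spec (exists_int p χ ψ)

theorem tilde_eq_sum [Fintype G] [Fintype (IrrCharacter G)] (p : ℕ) [Fact p.Prime]
    (χ : IrrCharacter G) :
    tilde p (χ : G → ℂ) = ∑ ψ : IrrCharacter G, (coef p χ ψ : ℂ) • (ψ : G → ℂ) := by
  conv_lhs => rw [Core.classFunction_eq_sum
    (isClassFunction_tilde p (Core.isIrr_isClassFunction χ.2))]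
  exact Finset.sum_congr rfl fun ψ _ => by rw [coef_spec]

/-- Weak block orthogonality. -/
theorem coef_eq_zero [Fintype G] (p : ℕ) [Fact p.Prime] {M : Ideal AlgInt} (hM : IsPModular p M)
    {B : Set (IrrCharacter G)} (hB : IsPBlock M B) {χ ψ : IrrCharacter G} (hχ : χ ∈ B)
    (hψ : ψ ∉ B) : coef p χ ψ = 0 := by
  have h := coef_spec p χ ψ
  rw [classInner_tilde, pair_eq_zero hM hB hχ hψ, mul_zero, mul_zero] at h
  exact_mod_cast h.symm

/-- Symmetry. -/
theorem coef_comm [Fintype G] (p : ℕ) [Fact p.Prime] (χ ψ : IrrCharacter G) :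
    coef p χ ψ = coef p ψ χ := by
  have h := coef_spec p χ ψ
  have h' := coef_spec p ψ χ
  rw [classInner_tilde] at h h'
  rw [pair_comm p (Core.isCharacter_apply_inv (Core.isIrr_isCharacter χ.2))
    (Core.isCharacter_apply_inv (Core.isIrr_isCharacter ψ.2)), h'] at h
  exact_mod_cast h.symm

/-- `pair p ψ χ / ψ 1` is an algebraic integer. -/
theorem isIntegral_pair_div [Fintype G] (p : ℕ) {ψ χ : G → ℂ}
    (hψ : IsIrrCharacter G ψ) (hχ : IsCharacter G χ) : IsIntegral ℤ (pair p ψ χ / ψ 1) := by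
  classical
  rw [pair_div_eq p (Core.isIrr_isClassFunction hψ) (Core.isCharacter_isClassFunction hχ)]
  refine IsIntegral.sum _ fun c _ => IsIntegral.mul ?_ (isIntegral_centralChar' hψ _)
  unfold regPart
  split
  · exact isIntegral_zero
  · exact isIntegral_conj (isIntegral_of_isCharacter hχ _)

theorem exists_int_of_isIntegral {q : ℚ} (h : IsIntegral ℤ (q : ℂ)) : ∃ n : ℤ, (n : ℚ) = q := by
  have h1 : IsIntegral ℤ q := by
    have hinj : Function.Injective (algebraMap ℚ ℂ) := (algebraMap ℚ ℂ).injective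
    exact (isIntegral_algebraMap_iff hinj).1 (by simpa using h)
  obtain ⟨n, hn⟩ := IsIntegrallyClosed.isIntegral_iff.1 h1
  exact ⟨n, by simpa using hn⟩

/-- The degree of a character as a natural number. -/
theorem charDegree_spec {χ : G → ℂ} (h : IsCharacter G χ) : χ 1 = (charDegree χ : ℂ) := by
  obtain ⟨n, hn⟩ := Core.isCharacter_apply_one h
  rw [charDegree_eq hn, hn]

theorem charDegree_pos (χ : IrrCharacter G) : 0 < charDegree (χ : G → ℂ) := by
  obtain ⟨n, hn, hn'⟩ := Core.isIrr_apply_one χ.2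
  rw [charDegree_eq hn']
  exact hn

/-- The degree divides the group order. -/
theorem charDegree_dvd [Finite G] (χ : IrrCharacter G) :
    charDegree (χ : G → ℂ) ∣ Nat.card G := by
  obtain ⟨χ, n, ρ, hρ, rfl⟩ := χ
  have h : charDegree ρ.character = Module.finrank ℂ (Fin n → ℂ) := by
    apply charDegree_eq
    simp
  show charDegree ρ.character ∣ _
  rw [h]
  exact Cfsg.Agent.Characters.DegreeBounds.finrank_dvd_card ρ

/-- The `p`-part of the degree of `ψ` divides the coefficient. -/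
theorem dvd_coef_right [Fintype G] (p : ℕ) [Fact p.Prime] (χ ψ : IrrCharacter G) :
    ((p ^ (charDegree (ψ : G → ℂ)).factorization p : ℕ) : ℤ) ∣ coef p χ ψ := by
  have hp : p.Prime := Fact.out
  set a := (Nat.card G).factorization p with ha
  set b := (charDegree (ψ : G → ℂ)).factorization p with hb
  have hG : Nat.card G ≠ 0 := Nat.card_pos.ne'
  have hψ0 : charDegree (ψ : G → ℂ) ≠ 0 := (charDegree_pos ψ).ne'
  obtain ⟨m, hm⟩ : ∃ m, Nat.card G = p ^ a * m :=
    ⟨Nat.card G / p ^ a, (Nat.ordProj_mul_ordCompl_eq_self _ p).symm⟩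
  have hmp : ¬ p ∣ m := by
    have := Nat.not_dvd_ordCompl hp hG
    rwa [Nat.div_eq_of_eq_mul_right (pow_pos hp.pos _) hm] at this
  obtain ⟨d, hd⟩ : ∃ d, charDegree (ψ : G → ℂ) = p ^ b * d :=
    ⟨charDegree (ψ : G → ℂ) / p ^ b, (Nat.ordProj_mul_ordCompl_eq_self _ p).symm⟩
  -- m * coef = pair
  have h1 : (m : ℂ) * (coef p χ ψ : ℂ) = pair p (ψ : G → ℂ) (χ : G → ℂ) := by
    rw [← coef_spec, classInner_tilde,
      pair_comm p (Core.isCharacter_apply_inv (Core.isIrr_isCharacter χ.2))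
        (Core.isCharacter_apply_inv (Core.isIrr_isCharacter ψ.2)), ← ha, hm]
    have hp0 : ((p ^ a : ℕ) : ℂ) ≠ 0 := by
      exact_mod_cast (pow_pos hp.pos _).ne'
    have hm0 : (m : ℂ) ≠ 0 := by
      rintro h0
      apply hmp
      have : m = 0 := by exact_mod_cast h0
      rw [this]; exact dvd_zero _
    rw [Nat.cast_mul]
    field_simp
  have h2 := isIntegral_pair_div p ψ.2 (Core.isIrr_isCharacter χ.2)
  rw [← h1, charDegree_spec (Core.isIrr_isCharacter ψ.2)] at h2
  have h3 : IsIntegral ℤ ((((m : ℤ) * coef p χ ψ : ℤ) : ℚ) / ((p ^ b : ℕ) : ℚ) : ℚ) := by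
    have hinj : Function.Injective (algebraMap ℚ ℂ) := (algebraMap ℚ ℂ).injective
    refine (isIntegral_algebraMap_iff hinj).1 ?_
    have h4 : IsIntegral ℤ ((d : ℂ) * ((m : ℂ) * (coef p χ ψ : ℂ) /
        (charDegree (ψ : G → ℂ) : ℂ))) := by
      refine IsIntegral.mul ?_ h2
      have := (isIntegral_algebraMap (R := ℤ) (A := ℂ) (x := (d : ℤ)))
      simpa using this
    have e : (algebraMap ℚ ℂ) ((((m : ℤ) * coef p χ ψ : ℤ) : ℚ) / ((p ^ b : ℕ) : ℚ)) =
        (d : ℂ) * ((m : ℂ) * (coef p χ ψ : ℂ) / (charDegree (ψ : G → ℂ) : ℂ)) := by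
      have hd0 : (d : ℂ) ≠ 0 := by
        intro h0
        apply hψ0
        have : d = 0 := by exact_mod_cast h0
        rw [hd, this, mul_zero]
      have hp0 : ((p ^ b : ℕ) : ℂ) ≠ 0 := by
        exact_mod_cast (pow_pos hp.pos _).ne'
      rw [hd, Nat.cast_mul]
      simp only [map_div₀, map_intCast, map_natCast]
      push_cast at hp0 ⊢
      field_simp
    rw [e]
    exact h4
  obtain ⟨k, hk⟩ := IsIntegrallyClosed.isIntegral_iff.1 h3
  have hk' : (k : ℚ) = (((m : ℤ) * coef p χ ψ : ℤ) : ℚ) / ((p ^ b : ℕ) : ℚ) := by simpa using hk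
  have hp0 : ((p ^ b : ℕ) : ℚ) ≠ 0 := by
    exact_mod_cast (pow_pos hp.pos _).ne'
  rw [eq_div_iff hp0] at hk'
  have hk'' : k * ((p ^ b : ℕ) : ℤ) = (m : ℤ) * coef p χ ψ := by exact_mod_cast hk'
  have hcop : IsCoprime ((p ^ b : ℕ) : ℤ) (m : ℤ) := by
    rw [Nat.isCoprime_iff_coprime]
    exact Nat.Coprime.pow_left _ ((Nat.Prime.coprime_iff_not_dvd hp).2 hmp)
  exact hcop.dvd_of_dvd_mul_left ⟨k, by rw [← hk'']; ring⟩

theorem dvd_coef_left [Fintype G] (p : ℕ) [Fact p.Prime] (χ ψ : IrrCharacter G) :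
    ((p ^ (charDegree (χ : G → ℂ)).factorization p : ℕ) : ℤ) ∣ coef p χ ψ := by
  rw [coef_comm]
  exact dvd_coef_right p ψ χ

end Cfsg.Agent.H589.Tilde
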